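import Groth.Agent.EtUnitConst.Basic
import Groth.Agent.EtStruct.UnibranchGlobal
import Groth.Agent.S9812
import Mathlib.AlgebraicGeometry.Morphisms.Preimmersion
import Mathlib.Topology.Connected.LocallyConnected

/-!
# Étale schemes over normal integral schemes: components and generic points
-/

set_option autoImplicit false

universe u

open CategoryTheory CategoryTheory.Limits AlgebraicGeometry Opposite TopologicalSpace Topology

noncomputable section

namespace Groth.Agent.EtUnitConst

variable {X : Scheme.{u}} [IsIntegral X] (hN : ∀ x : X, IsIntegrallyClosed (X.presheaf.stalk x))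

include hN in
theorem exists_irreducible_nhd (W : X.Etale) (w : W.left) :
    ∃ N : Set W.left, IsOpen N ∧ w ∈ N ∧ IsIrreducible N := by
  let f : W.left ⟶ X := W.hom
  haveI : Etale f := W.prop
  have := hN (f w)
  obtain ⟨N, hw, hN'⟩ := Groth.Agent.EtStruct.exists_irreducible_nhd_of_etale f w
    (Groth.Agent.S9812.result _)
  exact ⟨N, N.2, hw, hN'⟩

include hN in
theorem components (W : X.Etale) (w : W.left) :
    IsOpen (connectedComponent w) ∧ IsIrreducible (connectedComponent w) := by
  have hopen : ∀ y : W.left, IsOpen (connectedComponent y) := fun y => by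
    refine isOpen_iff_forall_mem_open.2 fun z hz => ?_
    obtain ⟨N, hNo, hzN, hNi⟩ := exists_irreducible_nhd hN W z
    refine ⟨N, ?_, hNo, hzN⟩
    rw [connectedComponent_eq hz]
    exact hNi.isConnected.isPreconnected.subset_connectedComponent hzN
  refine ⟨hopen w, ?_⟩
  have : ConnectedSpace (connectedComponent w) :=
    Subtype.connectedSpace isConnected_connectedComponent
  have hirr : IrreducibleSpace (connectedComponent w) := by
    refine Groth.Agent.EtStruct.irreducibleSpace_of_connected_of_exists_irreducible_nhd fun z => ?_
    obtain ⟨N, hNo, hzN, hNi⟩ := exists_irreducible_nhd hN W z.1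
    refine ⟨Subtype.val ⁻¹' N, hNo.preimage continuous_subtype_val, hzN, ?_⟩
    exact hNi.preimage (hopen w).isOpenEmbedding_subtypeVal ⟨z.1, hzN, z, rfl⟩
  have h := hirr.isIrreducible_univ.image Subtype.val continuous_subtype_val.continuousOn
  rwa [Set.image_univ, Subtype.range_coe] at h

omit hN in
/-- Nonempty opens of an étale scheme meet the preimage of nonempty opens of the base. -/
theorem exists_mem_over (W : X.Etale) (D : W.left.Opens) (hD : (D : Set W.left).Nonempty)
    (U : X.Opens) (hU : (U : Set X).Nonempty) : ∃ x ∈ D, W.hom x ∈ U := by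
  let f : W.left ⟶ X := W.hom
  haveI : Etale f := W.prop
  have hopen : IsOpen (f '' (D : Set W.left)) := f.isOpenMap _ D.2
  obtain ⟨_, ⟨x, hx, rfl⟩, hy⟩ :=
    nonempty_preirreducible_inter hopen U.2 (hD.image _) hU
  exact ⟨x, hx, hy⟩

include hN in
/-- The fibre over the generic point meets a component only in its generic point. -/
theorem eq_of_over_genericPoint (W : X.Etale) {x c : W.left}
    (hx : W.hom x = genericPoint X) (hc : IsGenericPoint c (connectedComponent x)) : x = c := by
  let f : W.left ⟶ X := W.hom
  haveI : Etale f := W.prop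
  haveI : LocallyQuasiFinite f := Groth.Agent.EtStruct.locallyQuasiFinite_of_formallyUnramified f
  have hcx : c ⤳ x := hc.specializes mem_connectedComponent
  have hfc : f c = f x :=
    ((hcx.map f.continuous).antisymm (hx ▸ genericPoint_specializes _)).eq
  exact (Groth.Agent.EtStruct.eq_of_specializes_of_map_eq f hcx hfc).symm

include hN in
theorem isIso_unit_open (M : Type (u + 1)) [AddCommGroup M] (U : X.Opens) (hU : (U : Set X).Nonempty) :
    IsIso ((EtCoh.pullPushAdj U.ι).unit.app (EtConsAb.constAb M X)) := by
  refine isIso_unit M U.ι (components hN) (fun W D hD => ?_) fun W w => ?_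
  · rw [Scheme.Opens.range_ι]
    exact exists_mem_over W D hD U hU
  · have : IsOpenImmersion (pullback.fst W.hom U.ι) := inferInstance
    refine (IsIrreducible.preimage (components hN W w).2
      (pullback.fst W.hom U.ι).isOpenEmbedding ?_).isPreirreducible.isPreconnected
    obtain ⟨x, hx, hxU⟩ := exists_mem_over W ⟨_, (components hN W w).1⟩ ⟨w, mem_connectedComponent⟩ U hU
    obtain ⟨p, hp, -⟩ := Scheme.Pullback.exists_preimage_pullback (f := W.hom) (g := U.ι)
      x ⟨W.hom x, hxU⟩ rfl
    exact ⟨x, hx, p, hp⟩

include hN in
theorem isIso_unit_genericPoint (M : Type (u + 1)) [AddCommGroup M] :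
    IsIso ((EtCoh.pullPushAdj (X.fromSpecStalk (genericPoint X))).unit.app (EtConsAb.constAb M X)) := by
  have hrange : Set.range (X.fromSpecStalk (genericPoint X)) = {genericPoint X} := by
    rw [Scheme.range_fromSpecStalk]
    ext y
    exact ⟨fun h => (h.antisymm (genericPoint_specializes y)).eq, fun h => h ▸ specializes_rfl⟩
  refine isIso_unit M _ (components hN) (fun W D hD => ?_) fun W w => ?_
  · let f : W.left ⟶ X := W.hom
    haveI : Etale f := W.prop
    obtain ⟨x, hx, hfx⟩ := (((genericPoint_spec X).mem_open_set_iff
      (f.isOpenMap _ D.2)).2 (by rw [Set.univ_inter]; exact hD.image _) :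
        genericPoint X ∈ f '' (D : Set W.left))
    exact ⟨x, hx, hrange.ge hfx⟩
  · let π := pullback.fst W.hom (X.fromSpecStalk (genericPoint X))
    haveI : IsPreimmersion π := by
      have hg := fun (Y : Scheme.{u}) (y : Y) => (inferInstance : IsPreimmersion (Y.fromSpecStalk y))
      exact MorphismProperty.pullback_fst (P := @IsPreimmersion) _ _ (hg X _)
    refine Set.Subsingleton.isPreconnected fun a ha b hb => π.isEmbedding.injective ?_
    obtain ⟨c, hc⟩ := QuasiSober.sober (components hN W w).2 isClosed_connectedComponent
    have key : ∀ a, π a ∈ connectedComponent w → π a = c := fun a ha => by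
      refine eq_of_over_genericPoint hN W ?_ (by rwa [← connectedComponent_eq ha])
      have h : W.hom (π a) ∈ Set.range (X.fromSpecStalk (genericPoint X)) :=
        ⟨pullback.snd W.hom (X.fromSpecStalk (genericPoint X)) a,
          (congrArg (fun k : pullback W.hom (X.fromSpecStalk (genericPoint X)) ⟶ X => k a)
            pullback.condition).symm⟩
      rwa [hrange] at h
    exact (key a ha).trans (key b hb).symm

end Groth.Agent.EtUnitConst
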