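import Groth.Agent.EtConsAb.ConstMod
import Groth.Agent.EtConsAb.PullTriv
import Groth.Agent.EtConsAb.Descend
import Groth.Agent.EtaleSite.Clopen
import Groth.Agent.EtaleSite.ConstSections

/-!
# The unit `M → g_* g⁻¹ M` for constant sheaves

It is an isomorphism as soon as, for every étale `W → X`, the connected components of `W` are open
and irreducible and have preconnected preimages in `W ×_X X'`, and nonempty opens of `W` meet the
range.
-/

set_option autoImplicit false

universe u

open CategoryTheory CategoryTheory.Limits AlgebraicGeometry Opposite TopologicalSpace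

noncomputable section

namespace Groth.Agent.EtUnitConst

open Groth.Agent.EtaleSite Groth.Agent.EtConsAb

variable {X : Scheme.{u}}

theorem res_res (F : EtCoh.Ab X) {T U V : X.Etale} (a : T ⟶ U) (b : U ⟶ V) {c : T ⟶ V}
    (h : a ≫ b = c) (s : F.obj.obj (op V)) :
    F.obj.map a.op (F.obj.map b.op s) = F.obj.map c.op s := by
  rw [← ConcreteCategory.comp_apply, ← Functor.map_comp, ← op_comp, h]

/-- Restriction along surjective morphisms is injective. -/
theorem eq_of_surjective (F : EtCoh.Ab X) {U V : X.Etale} (l : V ⟶ U)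
    (hl : Function.Surjective l.left.base) (s t : F.obj.obj (op U))
    (h : F.obj.map l.op s = F.obj.map l.op t) : s = t := by
  refine F.property.isSeparated _ _ (Covers.singleton_mem l hl) s t ?_
  rintro T k ⟨T', a, b, hb, rfl⟩
  obtain ⟨rfl⟩ := hb
  rw [← res_res F a l rfl, ← res_res F a l rfl, h]

/-- An equality on an étale neighbourhood holds on an open one. -/
theorem exists_piece_eq (F : EtCoh.Ab X) {U V : X.Etale} (h : V ⟶ U) (s t : F.obj.obj (op U))
    (e : F.obj.map h.op s = F.obj.map h.op t) (v : V.left) :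
    ∃ D : U.left.Opens, h.left v ∈ D ∧
      F.obj.map (pieceHom U D).op s = F.obj.map (pieceHom U D).op t := by
  have := EtConsAb.etale_left h
  let D : U.left.Opens := ⟨Set.range h.left, h.left.isOpenMap.isOpen_range⟩
  have hr : Set.range h.left ⊆ Set.range (Scheme.Opens.ι D) := by
    rintro _ ⟨z, rfl⟩
    exact ⟨⟨h.left z, z, rfl⟩, rfl⟩
  let l₀ : V.left ⟶ (D : Scheme.{u}) := IsOpenImmersion.lift (Scheme.Opens.ι D) h.left hr
  have hl₀ : l₀ ≫ Scheme.Opens.ι D = h.left := IsOpenImmersion.lift_fac _ _ hr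
  let l : V ⟶ piece U D := MorphismProperty.Over.homMk l₀
    (((Category.assoc _ _ _).symm.trans (congrArg (· ≫ U.hom) hl₀)).trans (MorphismProperty.Over.w h))
  have hl : l ≫ pieceHom U D = h := MorphismProperty.Over.Hom.ext hl₀
  refine ⟨D, ⟨v, rfl⟩, eq_of_surjective F l ?_ _ _ ?_⟩
  · rintro ⟨y, z, rfl⟩
    exact ⟨z, Subtype.ext (congrArg (fun k : V.left ⟶ U.left => k z) hl₀)⟩
  · rw [res_res F l _ hl, res_res F l _ hl, e]

variable (M : Type (u + 1)) [AddCommGroup M]

theorem map_constSect {W V : X.Etale} (g : V ⟶ W) (c : M) :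
    (constAb M X).obj.map g.op (constSect M W c) = constSect M V c :=
  ConstSections.map_cst g (M := AddCommGrpCat.of M) c

/-- A section of a constant sheaf is constant near every point. -/
theorem exists_constSect_nhd {U : X.Etale} (s : (constAb M X).obj.obj (op U)) (x : U.left) :
    ∃ (D : U.left.Opens) (c : M), x ∈ D ∧
      (constAb M X).obj.map (pieceHom U D).op s = constSect M (piece U D) c := by
  have := (ConstSections.etaConst_locallyBijective (X := X) (AddCommGrpCat.of M)).2
  obtain ⟨V, h, v, ⟨c, hc⟩, rfl⟩ := exists_of_mem_topology (Presheaf.imageSieve_mem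
    X.smallEtaleTopology (ConstSections.etaConst (X := X) (AddCommGrpCat.of M)) s) x
  obtain ⟨D, hD, e⟩ := exists_piece_eq (constAb M X) h s (constSect M U c)
    (hc.symm.trans (map_constSect M h c).symm) v
  exact ⟨D, c, hD, e.trans (map_constSect M _ c)⟩

variable {X' : Scheme.{u}} (g : X' ⟶ X)

/-- The pulled back constant sections. -/
def pm (W : X.Etale) : M →+ ((EtCoh.pull g).obj (constAb M X)).obj.obj (op ((EtCoh.bc g).obj W)) :=
  (pullSect g (constAb M X) W).comp (constSect M W)

theorem isTriv_pm (W : X.Etale) :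
    IsTriv ((EtCoh.pull g).obj (constAb M X)) ((EtCoh.bc g).obj W) M (pm M g W) :=
  (isTriv_constSect M W).pull g

theorem map_pm {W V : X.Etale} (e : V ⟶ W) (c : M) :
    ((EtCoh.pull g).obj (constAb M X)).obj.map ((EtCoh.bc g).map e).op (pm M g W c) = pm M g V c := by
  refine (pullSect_res g (constAb M X) e _).symm.trans ?_
  rw [map_constSect]
  rfl

/-- Sections of the pullback are constant near every point. -/
theorem exists_pm_nhd {W : X.Etale}
    (t : ((EtCoh.pull g).obj (constAb M X)).obj.obj (op ((EtCoh.bc g).obj W)))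
    (x : ((EtCoh.bc g).obj W).left) :
    ∃ (D : ((EtCoh.bc g).obj W).left.Opens) (c : M), x ∈ D ∧
      ((EtCoh.pull g).obj (constAb M X)).obj.map (pieceHom _ D).op t =
        ((EtCoh.pull g).obj (constAb M X)).obj.map (pieceHom _ D).op (pm M g W c) := by
  let G := (EtCoh.pull g).obj (constAb M X)
  let W' := (EtCoh.bc g).obj W
  let ξ := geomPointAt X' (W'.hom x)
  obtain ⟨φ, hφ⟩ := exists_fiber_point ξ W' x (geomPointAt_apply _ _ _).symm
  obtain ⟨c, hc⟩ := (isTriv_pm M g W _ ξ φ).2 (germ ξ G W' φ t)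
  obtain ⟨V, h, y, hy, e⟩ := (germ_eq_iff ξ G W' φ _ _).1 hc
  obtain ⟨D, hD, e'⟩ := exists_piece_eq G h _ _ e.symm (y.left (default : Spec (CommRingCat.of _)))
  refine ⟨D, c, ?_, e'⟩
  rw [← hφ, ← hy]
  exact hD

/-- The constant is determined on nonempty opens. -/
theorem pm_unique {W : X.Etale} (D : ((EtCoh.bc g).obj W).left.Opens)
    {x : ((EtCoh.bc g).obj W).left} (hx : x ∈ D) {c c' : M}
    (h : ((EtCoh.pull g).obj (constAb M X)).obj.map (pieceHom _ D).op (pm M g W c) =
      ((EtCoh.pull g).obj (constAb M X)).obj.map (pieceHom _ D).op (pm M g W c')) : c = c' := by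
  let W' := (EtCoh.bc g).obj W
  let ξ := geomPointAt X' (W'.hom x)
  obtain ⟨φ, -⟩ := exists_fiber_point ξ (piece W' D) ⟨x, hx⟩ (geomPointAt_apply _ _ _).symm
  refine (isTriv_pm M g W _ ξ ((Scheme.pointSmallEtale ξ).fiber.map (pieceHom W' D) φ)).1 ?_
  change germ ξ _ _ _ _ = germ ξ _ _ _ _
  rw [← germ_res, ← germ_res]
  exact congrArg _ h

variable
  (hirr : ∀ (W : X.Etale) (w : W.left), IsOpen (connectedComponent w) ∧
    IsIrreducible (connectedComponent w))
  (hmeet : ∀ (W : X.Etale) (D : W.left.Opens), (D : Set W.left).Nonempty →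
    ∃ x ∈ D, W.hom x ∈ Set.range g)
  (hconn : ∀ (W : X.Etale) (w : W.left), _root_.IsPreconnected
    ((pullback.fst W.hom g : ((EtCoh.bc g).obj W).left ⟶ W.left) ⁻¹' connectedComponent w))

include hmeet in
theorem injective_pullSect (W : X.Etale) :
    Function.Injective (pullSect g (constAb M X) W) := by
  refine (injective_iff_map_eq_zero _).2 fun s hs => eq_of_pieces (constAb M X)
    (fun x => (exists_constSect_nhd M s x).choose)
    (fun x => ⟨x, (exists_constSect_nhd M s x).choose_spec.choose_spec.1⟩) _ _ fun x => ?_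
  obtain ⟨c, hxD, hD⟩ := (exists_constSect_nhd M s x).choose_spec
  set D := (exists_constSect_nhd M s x).choose
  rw [hD, map_zero]
  obtain ⟨z, hzD, z', hz'⟩ := hmeet W D ⟨x, hxD⟩
  obtain ⟨p, -, -⟩ := Scheme.Pullback.exists_preimage_pullback (f := (piece W D).hom) (g := g)
    ⟨z, hzD⟩ z' hz'.symm
  have h0 : pm M g (piece W D) c = pm M g (piece W D) 0 := by
    show pullSect g (constAb M X) _ (constSect M (piece W D) c) = _
    rw [← hD, pullSect_res, hs, map_zero, map_zero]
  have hc : c = 0 := pm_unique M g (⊤ : ((EtCoh.bc g).obj (piece W D)).left.Opens) (x := p)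
    trivial (congrArg _ h0)
  rw [hc, map_zero]

include hirr hconn in
theorem surjective_pullSect (W : X.Etale) :
    Function.Surjective (pullSect g (constAb M X) W) := by
  intro t
  classical
  let G := (EtCoh.pull g).obj (constAb M X)
  let W' := (EtCoh.bc g).obj W
  let π : W'.left ⟶ W.left := pullback.fst W.hom g
  let r : _root_.ConnectedComponents W.left → W.left :=
    Function.surjInv ConnectedComponents.surjective_coe
  have hr : ∀ q, ConnectedComponents.mk (r q) = q := Function.surjInv_eq _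
  let C : _root_.ConnectedComponents W.left → W.left.Opens := fun q =>
    ⟨connectedComponent (r q), (hirr W (r q)).1⟩
  have hC : ∀ x, x ∈ C (ConnectedComponents.mk x) := fun x =>
    ConnectedComponents.coe_eq_coe'.1 (hr _).symm
  have hCd : ∀ a b, a ≠ b → Disjoint (C a) (C b) := by
    intro a b hab
    rw [disjoint_iff, eq_bot_iff]
    rintro x ⟨ha, hb⟩
    exact hab ((hr a).symm.trans ((ConnectedComponents.coe_eq_coe.2
      ((connectedComponent_eq ha).trans (connectedComponent_eq hb).symm)).trans (hr b)))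
  choose D c hxD hDc using exists_pm_nhd M g t
  have hloc : IsLocallyConstant c := by
    refine (IsLocallyConstant.iff_exists_open c).2 fun x => ⟨D x, (D x).2, hxD x, fun y hy => ?_⟩
    refine pm_unique M g (D x ⊓ D y) (x := y) ⟨hy, hxD y⟩ ?_
    have hl : ∀ (E : W'.left.Opens) (hE : D x ⊓ D y ≤ E),
        ∃ l : piece W' (D x ⊓ D y) ⟶ piece W' E,
          l ≫ pieceHom W' E = pieceHom W' (D x ⊓ D y) := fun E hE =>
      ⟨MorphismProperty.Over.homMk (W'.left.homOfLE hE)
        (show W'.left.homOfLE hE ≫ E.ι ≫ W'.hom = (D x ⊓ D y).ι ≫ W'.hom by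
          rw [Scheme.homOfLE_ι_assoc]),
        MorphismProperty.Over.Hom.ext (W'.left.homOfLE_ι hE)⟩
    obtain ⟨lx, ex⟩ := hl (D x) inf_le_left
    obtain ⟨ly, ey⟩ := hl (D y) inf_le_right
    rw [← res_res G ly _ ey, ← hDc y, ← res_res G lx _ ex, ← hDc x, res_res G ly _ ey,
      res_res G lx _ ex]
  let val : _root_.ConnectedComponents W.left → M := fun q =>
    if h : ∃ x, π x ∈ C q then c h.choose else 0
  have hval : ∀ x, val (ConnectedComponents.mk (π x)) = c x := fun x => by
    have h : ∃ y, π y ∈ C (ConnectedComponents.mk (π x)) := ⟨x, hC _⟩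
    rw [show val _ = c h.choose from dif_pos h]
    exact hloc.apply_eq_of_isPreconnected (hconn W _) h.choose_spec (hC _)
  obtain ⟨s, hs⟩ := exists_glue_disjoint (constAb M X) C hCd (fun x => ⟨_, hC x⟩)
    fun q => constSect M (piece W (C q)) (val q)
  refine ⟨s, eq_of_pieces G (U := W')
    (fun x => D x ⊓ π ⁻¹ᵁ C (ConnectedComponents.mk (π x)))
    (fun x => ⟨x, hxD x, hC _⟩) _ _ fun x => ?_⟩
  let C₀ : W.left.Opens := C (ConnectedComponents.mk (π x))
  let E : W'.left.Opens := D x ⊓ π ⁻¹ᵁ C₀
  have hrange : Set.range (E.ι ≫ π) ⊆ Set.range (Scheme.Opens.ι C₀) := by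
    rintro _ ⟨z, rfl⟩
    exact ⟨⟨π z.1, z.2.2⟩, rfl⟩
  let a : (E : Scheme.{u}) ⟶ (C₀ : Scheme.{u}) := IsOpenImmersion.lift C₀.ι (E.ι ≫ π) hrange
  have ha : a ≫ C₀.ι = E.ι ≫ π := IsOpenImmersion.lift_fac _ _ hrange
  have H := EtCoh.isPullback_bc_map g (pieceHom W C₀)
  let l₀ : (E : Scheme.{u}) ⟶ ((EtCoh.bc g).obj (piece W C₀)).left := H.lift E.ι a ha.symm
  let l : piece W' E ⟶ (EtCoh.bc g).obj (piece W C₀) := MorphismProperty.Over.homMk l₀
    (((congrArg (l₀ ≫ ·) (MorphismProperty.Over.w ((EtCoh.bc g).map (pieceHom W C₀))).symm).trans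
      (Category.assoc _ _ _).symm).trans (congrArg (· ≫ W'.hom) (H.lift_fst _ _ _)))
  have hl : l ≫ (EtCoh.bc g).map (pieceHom W C₀) = pieceHom W' E :=
    MorphismProperty.Over.Hom.ext (H.lift_fst _ _ _)
  let le : piece W' E ⟶ piece W' (D x) := MorphismProperty.Over.homMk
    (W'.left.homOfLE (inf_le_left : E ≤ D x))
    (show W'.left.homOfLE inf_le_left ≫ (D x).ι ≫ W'.hom = E.ι ≫ W'.hom by
      rw [Scheme.homOfLE_ι_assoc])
  have hle : le ≫ pieceHom W' (D x) = pieceHom W' E :=
    MorphismProperty.Over.Hom.ext (W'.left.homOfLE_ι (inf_le_left : E ≤ D x))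
  calc G.obj.map (pieceHom W' E).op (pullSect g (constAb M X) W s)
      = G.obj.map l.op (G.obj.map ((EtCoh.bc g).map (pieceHom W C₀)).op
          (pullSect g (constAb M X) W s)) := (res_res G l _ hl _).symm
    _ = G.obj.map l.op (pm M g (piece W C₀) (c x)) := by
        rw [← pullSect_res, hs, hval]
        rfl
    _ = G.obj.map (pieceHom W' E).op (pm M g W (c x)) := by
        rw [← map_pm M g (pieceHom W C₀), res_res G l _ hl]
    _ = G.obj.map le.op (G.obj.map (pieceHom W' (D x)).op (pm M g W (c x))) :=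
        (res_res G le _ hle _).symm
    _ = G.obj.map (pieceHom W' E).op t := by rw [← hDc, res_res G le _ hle]

include hirr hmeet hconn in
theorem isIso_unit : IsIso ((EtCoh.pullPushAdj g).unit.app (constAb M X)) := by
  have : IsIso ((sheafToPresheaf X.smallEtaleTopology AddCommGrpCat.{u + 1}).map
      ((EtCoh.pullPushAdj g).unit.app (constAb M X))) := by
    have : ∀ W, IsIso (((sheafToPresheaf X.smallEtaleTopology AddCommGrpCat.{u + 1}).map
        ((EtCoh.pullPushAdj g).unit.app (constAb M X))).app W) := fun W =>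
      (ConcreteCategory.isIso_iff_bijective _).2 ⟨injective_pullSect M g hmeet W.unop,
        surjective_pullSect M g hirr hconn W.unop⟩
    exact NatIso.isIso_of_isIso_app _
  exact isIso_of_reflects_iso _ (sheafToPresheaf X.smallEtaleTopology AddCommGrpCat.{u + 1})

end Groth.Agent.EtUnitConst
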